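import Cfsg.Agent.Lib.SympSylowTwo.Derived
import Mathlib.GroupTheory.RegularWreathProduct
import Mathlib.GroupTheory.IndexNormal

/-!
# Derived series of p-groups against indices and wreath products

* `derivedSeries_le_of_index` : in a p-group, a subgroup of index dividing `p^b` contains the `b`-th derived group
* `derivedSeries_eq_bot_of_orbit` : a faithful action with orbits of size below `p^(b+1)` forces derived length `≤ b`
* `derivedSeries_iterated_ne_bot` : the `n`-fold iterated wreath product has derived length at least `n`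
-/

set_option autoImplicit false

open scoped commutatorElement

namespace Cfsg.Agent.SylowDerived

open Cfsg.Agent.SympSylowTwo

variable {G : Type*} [Group G] {p : ℕ}

theorem commutator_le_of_index_prime [Fact p.Prime] [Finite G] (hG : IsPGroup p G) (M : Subgroup G)
    (hM : M.index = p) : commutator G ≤ M := by
  have hp := (Fact.out : p.Prime)
  obtain ⟨n, hn⟩ := hG.exists_card_eq
  have hn0 : n ≠ 0 := by
    rintro rfl
    have := M.index_dvd_card
    rw [hM, hn, pow_zero, Nat.dvd_one] at this
    exact hp.ne_one this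
  haveI : M.Normal := Subgroup.normal_of_index_eq_minFac_card (by
    rw [hM, hn, hp.pow_minFac hn0])
  have hc : IsCyclic (G ⧸ M) := isCyclic_of_prime_card (p := p) (by rw [← Subgroup.index_eq_card, hM])
  rw [commutator_def, Subgroup.commutator_le]
  intro a _ b _
  rw [← QuotientGroup.eq_one_iff, ← QuotientGroup.mk'_apply, map_commutatorElement,
    commutatorElement_eq_one_iff_mul_comm]
  exact hc.commutative.is_comm.comm _ _

theorem der_le_of_relIndex_prime [Fact p.Prime] [Finite G] : ∀ (b : ℕ) {K H : Subgroup G}, H ≤ K →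
    IsPGroup p K → H.relIndex K ∣ p ^ b → der K b ≤ H := by
  have hp := (Fact.out : p.Prime)
  intro b
  induction b with
  | zero =>
    intro K H _ _ h
    rw [pow_zero, Nat.dvd_one, Subgroup.relIndex_eq_one] at h
    exact h
  | succ b ih =>
    intro K H hHK hK h
    rcases eq_or_lt_of_le hHK with rfl | hlt
    · exact der_le _ _
    · obtain ⟨n, hn⟩ := hK.exists_card_eq
      obtain ⟨l, hl⟩ := (hK.to_subgroup (H.subgroupOf K)).exists_card_eq
      have hln : l < n := by
        have hne : H.subgroupOf K ≠ ⊤ := fun htop => hlt.not_ge (Subgroup.subgroupOf_eq_top.1 htop)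
        by_contra! hle
        apply hne
        apply Subgroup.eq_top_of_card_eq
        apply le_antisymm (Subgroup.card_le_card_group _)
        rw [hl, hn]
        exact Nat.pow_le_pow_right hp.pos hle
      obtain ⟨M, hMc, hHM⟩ := Sylow.exists_subgroup_card_pow_prime_le (p := p) (m := n - 1)
        (hn ▸ Nat.pow_dvd_pow p (Nat.sub_le n 1)) (H.subgroupOf K) hl (by omega)
      have hidx : M.index = p := by
        have h1 := M.card_mul_index
        rw [hMc, hn, show n = n - 1 + 1 by omega, pow_succ, Nat.add_sub_cancel] at h1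
        exact Nat.eq_of_mul_eq_mul_left (pow_pos hp.pos _) h1
      have hcomm : ⁅K, K⁆ ≤ M.map K.subtype := Subgroup.commutator_le.2 fun a ha b hb =>
        ⟨⁅(⟨a, ha⟩ : K), ⟨b, hb⟩⁆, commutator_le_of_index_prime hK M hidx
          (Subgroup.commutator_mem_commutator (Subgroup.mem_top _) (Subgroup.mem_top _)), rfl⟩
      have hHM' : H ≤ M.map K.subtype := fun x hx => ⟨⟨x, hHK hx⟩, hHM hx, rfl⟩
      have hMK : M.map K.subtype ≤ K := Subgroup.map_subtype_le M
      have hdvd : H.relIndex (M.map K.subtype) ∣ p ^ b := by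
        have h1 := Subgroup.relIndex_mul_relIndex H (M.map K.subtype) K hHM' hMK
        have h2 : (M.map K.subtype).relIndex K = p := by
          rw [Subgroup.relIndex, Subgroup.subgroupOf,
            Subgroup.comap_map_eq_self_of_injective K.subtype_injective, hidx]
        rw [h2] at h1
        rw [← h1, pow_succ] at h
        exact Nat.dvd_of_mul_dvd_mul_right hp.pos h
      calc der K (b + 1) = der ⁅K, K⁆ b := by
            rw [Nat.add_comm b 1, der_add, der_succ, der_zero]
        _ ≤ der (M.map K.subtype) b := der_mono hcomm b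
        _ ≤ H := ih hHM' ((hK.to_subgroup M).map K.subtype) hdvd

/-- In a p-group, a subgroup of index dividing `p^b` contains the `b`-th derived subgroup. -/
theorem derivedSeries_le_of_index [Fact p.Prime] [Finite G] (hG : IsPGroup p G) {b : ℕ} (H : Subgroup G)
    (h : H.index ∣ p ^ b) : derivedSeries G b ≤ H := by
  rw [← der_top]
  exact der_le_of_relIndex_prime b le_top (hG.of_equiv Subgroup.topEquiv.symm)
    (by rwa [Subgroup.relIndex_top_right])

theorem derivedSeries_eq_bot_of_orbit [Fact p.Prime] [Finite G] (hG : IsPGroup p G) {α : Type*}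
    [MulAction G α] [FaithfulSMul G α] {b : ℕ}
    (h : ∀ a : α, Nat.card (MulAction.orbit G a) < p ^ (b + 1)) : derivedSeries G b = ⊥ := by
  rw [eq_bot_iff]
  intro g hg
  rw [Subgroup.mem_bot]
  refine FaithfulSMul.eq_of_smul_eq_smul (α := α) fun a => ?_
  rw [one_smul]
  have hi : (MulAction.stabilizer G a).index = Nat.card (MulAction.orbit G a) := by
    rw [MulAction.index_stabilizer, Nat.card_coe_set_eq]
  obtain ⟨k, hk⟩ := hG.index (MulAction.stabilizer G a)
  have hkb : k ≤ b := by
    have := h a
    rw [← hi, hk, Nat.pow_lt_pow_iff_right (Fact.out : p.Prime).one_lt] at this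
    omega
  exact derivedSeries_le_of_index hG _ (hk ▸ pow_dvd_pow p hkb) hg

section Wreath

open RegularWreathProduct

variable {D C : Type*} [Group D] [Group C]

/-- The base group of a regular wreath product. -/
def baseHom : (C → D) →* D ≀ᵣ C where
  toFun f := ⟨f, 1⟩
  map_one' := rfl
  map_mul' f g := by ext <;> simp

theorem derivedSeries_le_map_base [DecidableEq C] {c : C} (hc : c ≠ 1) (j : ℕ) :
    derivedSeries D j ≤ ((derivedSeries (D ≀ᵣ C) (j + 1)).comap baseHom).map
      (Pi.evalMonoidHom (fun _ : C => D) 1) := by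
  induction j with
  | zero =>
    intro h _
    let f₀ : C → D := Pi.mulSingle 1 h
    refine ⟨f₀ * fun x => (f₀ (c⁻¹ * x))⁻¹, ?_, ?_⟩
    · show baseHom _ ∈ derivedSeries (D ≀ᵣ C) 1
      have e : baseHom (f₀ * fun x => (f₀ (c⁻¹ * x))⁻¹) =
          ⁅baseHom f₀, (inl c : D ≀ᵣ C)⁆ := by
        rw [commutatorElement_def]
        ext x <;> simp [baseHom]
      rw [e, derivedSeries_succ, derivedSeries_zero]
      exact Subgroup.commutator_mem_commutator (Subgroup.mem_top _) (Subgroup.mem_top _)
    · show f₀ 1 * (f₀ (c⁻¹ * 1))⁻¹ = h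
      simp [f₀, hc]
  | succ j ih =>
    rw [derivedSeries_succ]
    refine (Subgroup.commutator_mono ih ih).trans ?_
    rw [← Subgroup.map_commutator]
    refine Subgroup.map_mono (Subgroup.commutator_le.2 fun a ha b hb => ?_)
    rw [Subgroup.mem_comap, map_commutatorElement, derivedSeries_succ _ (j + 1)]
    exact Subgroup.commutator_mem_commutator ha hb

theorem derivedSeries_wreath_ne_bot [Nontrivial C] {j : ℕ} (h : derivedSeries D j ≠ ⊥) :
    derivedSeries (D ≀ᵣ C) (j + 1) ≠ ⊥ := by
  classical
  obtain ⟨c, hc⟩ := exists_ne (1 : C)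
  intro hb
  refine h (eq_bot_iff.2 fun x hx => ?_)
  obtain ⟨f, hf, rfl⟩ := derivedSeries_le_map_base hc j hx
  rw [SetLike.mem_coe, Subgroup.mem_comap, hb, Subgroup.mem_bot] at hf
  have : f = 1 := congrArg RegularWreathProduct.left hf
  simp [this]

theorem derivedSeries_iterated_ne_bot [Nontrivial C] (k : ℕ) :
    derivedSeries (IteratedWreathProduct C (k + 1)) k ≠ ⊥ := by
  induction k with
  | zero =>
    obtain ⟨c, hc⟩ := exists_ne (1 : C)
    rw [derivedSeries_zero]
    intro h
    let c' : IteratedWreathProduct C 1 := (inl c : IteratedWreathProduct C 0 ≀ᵣ C)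
    have hm : c' ∈ (⊥ : Subgroup (IteratedWreathProduct C 1)) := h ▸ Subgroup.mem_top c'
    exact hc (congrArg RegularWreathProduct.right (Subgroup.mem_bot.1 hm))
  | succ k ih =>
    show derivedSeries (IteratedWreathProduct C (k + 1) ≀ᵣ C) (k + 1) ≠ ⊥
    exact derivedSeries_wreath_ne_bot ih

end Wreath

end Cfsg.Agent.SylowDerived
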